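import Groth.Agent.Lib.AVDual
import Groth.Agent.H23.PicMul
import Groth.Agent.GeomField.Connected
import Groth.Agent.AlgStLib.OnePointSt
import Groth.Prelude.Def_Pic13

/-!
# Algebraic equivalence to zero is closed under tensor products
-/

set_option autoImplicit false
set_option linter.style.haveILetI false
set_option backward.isDefEq.respectTransparency false
set_option backward.isDefEq.respectTransparency.types false

universe u

open CategoryTheory CategoryTheory.Limits AlgebraicGeometry

namespace Groth.Agent.PicCurve61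

variable {k : Type u} [Field k]

theorem geometricallyConnected [IsAlgClosed k] {T : Scheme.{u}} (q : T ⟶ Spec (CommRingCat.of k))
    [ConnectedSpace T] : GeometricallyConnected q := by
  letI : T.Over (Spec (CommRingCat.of k)) := ⟨q⟩
  obtain ⟨x⟩ : Nonempty T := inferInstance
  refine GeomField.geometricallyConnected_of_point (k := k) (X := T) x fun a ha => ?_
  letI : Algebra k (T.residueField x) := (Curv2.resMap k T x).toAlgebra
  have ha' : IsIntegral k a := ha
  exact ⟨_, (minpoly.degree_eq_one_iff.1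
    (IsAlgClosed.degree_eq_one_of_irreducible k (minpoly.irreducible ha'))).choose_spec⟩

theorem connectedSpace_prod [IsAlgClosed k] {T T' : Scheme.{u}} (q : T ⟶ Spec (CommRingCat.of k))
    (q' : T' ⟶ Spec (CommRingCat.of k)) [ConnectedSpace T] [ConnectedSpace T']
    [LocallyOfFiniteType q'] : ConnectedSpace ↥(pullback q q') := by
  haveI := geometricallyConnected q'
  haveI : Flat q' := AlgStLib.OnePt.flat_of_field q'
  haveI : LocallyOfFinitePresentation q' :=
    LocallyOfFinitePresentation.iff_locallyOfFiniteType.2 inferInstance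
  haveI : UniversallyOpen q' := UniversallyOpen.of_flat q'
  infer_instance

variable {X : Scheme.{u}} [X.Over (Spec (CommRingCat.of k))]

theorem algZero_tensor [IsAlgClosed k] {L L' : X.Modules} (h : Pic13.IsAlgEquivZero k X L)
    (h' : Pic13.IsAlgEquivZero k X L') : Pic13.IsAlgEquivZero k X (CohB1.tensorMod L L') := by
  obtain ⟨T, q, hc, hl, hq, M, hM, t, t₀, ht, ht₀, ⟨a⟩, ⟨b⟩⟩ := h
  obtain ⟨T', q', hc', hl', hq', M', hM', t', t₀', ht', ht₀', ⟨a'⟩, ⟨b'⟩⟩ := h'
  let r : pullback q q' ⟶ Spec (CommRingCat.of k) := pullback.fst q q' ≫ q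
  let g : Pic13.prodK k X r ⟶ Pic13.prodK k X q :=
    pullback.map _ _ _ _ (𝟙 X) (pullback.fst q q') (𝟙 _) (by simp) (by simp [r])
  let g' : Pic13.prodK k X r ⟶ Pic13.prodK k X q' :=
    pullback.map _ _ _ _ (𝟙 X) (pullback.snd q q') (𝟙 _) (by simp) (by simp [r, pullback.condition])
  let pt (s : Spec (CommRingCat.of k) ⟶ T) (hs : s ≫ q = 𝟙 _) (s' : Spec (CommRingCat.of k) ⟶ T')
      (hs' : s' ≫ q' = 𝟙 _) : Spec (CommRingCat.of k) ⟶ pullback q q' :=
    pullback.lift s s' (hs.trans hs'.symm)
  have hpt : ∀ s hs s' hs', pt s hs s' hs' ≫ r = 𝟙 _ := fun s hs s' hs' => by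
    simp [pt, r, hs, pullback.lift_fst_assoc]
  have hg : ∀ s hs s' hs', Pic13.sliceAt k X r (pt s hs s' hs') (hpt s hs s' hs') ≫ g =
      Pic13.sliceAt k X q s hs := fun s hs s' hs' => by
    apply pullback.hom_ext <;> simp [Pic13.sliceAt, g, pt]
  have hg' : ∀ s hs s' hs', Pic13.sliceAt k X r (pt s hs s' hs') (hpt s hs s' hs') ≫ g' =
      Pic13.sliceAt k X q' s' hs' := fun s hs s' hs' => by
    apply pullback.hom_ext <;> simp [Pic13.sliceAt, g', pt]
  let N : (Pic13.prodK k X r).Modules :=
    CohB1.tensorMod ((Scheme.Modules.pullback g).obj M) ((Scheme.Modules.pullback g').obj M')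
  have fib : ∀ s hs s' hs', Nonempty
      (Pic13.fibreMod k X r (pt s hs s' hs') (hpt s hs s' hs') N ≅
        CohB1.tensorMod (Pic13.fibreMod k X q s hs M) (Pic13.fibreMod k X q' s' hs' M')) := fun s hs s' hs' =>
    ⟨(H23.PicMul.pull _ _ _).some ≪≫ PicGrp.tensorModIso
      ((Scheme.Modules.pullbackComp _ g).app M ≪≫
        eqToIso (congrArg (fun m => (Scheme.Modules.pullback m).obj M) (hg s hs s' hs')))
      ((Scheme.Modules.pullbackComp _ g').app M' ≪≫
        eqToIso (congrArg (fun m => (Scheme.Modules.pullback m).obj M') (hg' s hs s' hs')))⟩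
  haveI := hc
  haveI := hc'
  haveI := hl
  haveI := hl'
  haveI := hq
  haveI := hq'
  refine ⟨pullback q q', r, connectedSpace_prod q q', inferInstance, inferInstance, N,
    H23.PicMul.isInvertible_tensor (PicClLib.isInvertible_pullback g hM) (PicClLib.isInvertible_pullback g' hM'),
    pt t ht t' ht', pt t₀ ht₀ t₀' ht₀', hpt t ht t' ht', hpt t₀ ht₀ t₀' ht₀',
    ⟨(fib t ht t' ht').some ≪≫ PicGrp.tensorModIso a a'⟩,
    ⟨(fib t₀ ht₀ t₀' ht₀').some ≪≫ PicGrp.tensorModIso b b' ≪≫ (H23.PicMul.unit _).some⟩⟩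

end Groth.Agent.PicCurve61
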