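import Groth.Agent.Lib.CurvePoint
import Groth.Agent.Lib.CurveRR
import Groth.Agent.Lib.CurveDeg
import Groth.Agent.Pic13Lib.SectTriv
import Groth.Agent.VBCurvesLib.Dual

/-!
# Invertible modules with a section: peeling off the zeros
-/

set_option autoImplicit false
set_option linter.style.haveILetI false
set_option linter.unusedSectionVars false
set_option backward.isDefEq.respectTransparency false
set_option backward.isDefEq.respectTransparency.types false

universe u

open CategoryTheory CategoryTheory.Limits AlgebraicGeometry TopologicalSpace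

namespace Groth.Agent.PicCurve61

open scoped Groth.Agent.H23.PicMul

variable {C : Scheme.{u}}

/-- A section lifts to the twist by a point where it does not generate. -/
theorem exists_lift_of_notMem_genLocus {M : C.Modules} (hM : PicF.IsInvertible M)
    (s : Coh.structureModule C ⟶ M) (hs : s ≠ 0) (p : C) (hp : IsClosed ({p} : Set C))
    (hps : p ∉ CohB1.genLocus M s) :
    ∃ s' : Coh.structureModule C ⟶ CohB1.tensorMod M (CurvePoint.ptMod p hp), s' ≠ 0 := by
  let F := DCoh.tensorBi.obj M
  let ι := ClSub.idealModι (CurvePoint.ptIdeal p hp)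
  let π := ClSub.toSubscheme (CurvePoint.ptIdeal p hp)
  have hS := CurveTensor.shortExact_tensor (CurveStable.isFinLocFree_of_rank (InvEnd.isFinLocFreeOfRank_one hM))
    ι π (kernel.condition _) (by
      haveI := CurvePoint.epi_toSubscheme (CurvePoint.ptIdeal p hp)
      exact CurveSlope.shortExact_kernel_of_epi _)
  let φ := s ≫ (KFlatLib.tensorUnitIso M).inv ≫ F.map π
  have hφ : φ = 0 := by
    refine Scheme.Modules.hom_ext _ _ fun W => ConcreteCategory.hom_ext _ _ fun r => ?_
    have h0 : InvX.one φ = 0 := by
      refine ZClosLib.section_ext _ _ _ fun x hx => ?_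
      by_cases hxp : x = p
      · subst hxp
        obtain ⟨U, hxU, e, he⟩ := InvX.exists_frame hM x
        obtain ⟨g, hg⟩ := he.exists_coord le_rfl (AModX.res M (le_top : U ≤ ⊤) (InvX.one s))
        rw [AModX.res_self] at hg
        have hgm : C.presheaf.germ U x hxU g ∈ IsLocalRing.maximalIdeal (C.presheaf.stalk x) := by
          by_contra hu
          have hb : x ∈ C.basicOpen g := by
            rw [Scheme.mem_basicOpen _ _ _ hxU]
            exact not_not.1 (fun h => hu ((IsLocalRing.mem_maximalIdeal _).2 h))
          rw [← InvX.genLocus_inf s he hg] at hb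
          exact hps hb.1
        let ψ := (KFlatLib.tensorUnitIso M).inv ≫ F.map π
        have h1 : RefHull.stalkMapₗ ψ x (M.presheaf.germ ⊤ x trivial (InvX.one s)) = 0 := by
          rw [← M.presheaf.germ_res_apply (homOfLE (le_top : U ≤ ⊤)) x hxU]
          erw [hg]
          rw [QCoh.germ_smul', map_smul]
          exact CurvePoint.smul_tensor_eq_zero x hp hgm _
        erw [RefHull.stalkMapₗ_germ] at h1
        rw [map_zero]
        exact h1
      · haveI := CurvePoint.subsingleton_stalk_of_ne p hp hxp
        haveI : Subsingleton (TensorProduct (C.presheaf.stalk x) (M.presheaf.stalk x)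
            ((ClSub.quotMod (CurvePoint.ptIdeal p hp)).presheaf.stalk x)) :=
          ⟨fun a b => by
            have key : ∀ c : TensorProduct (C.presheaf.stalk x) (M.presheaf.stalk x)
                ((ClSub.quotMod (CurvePoint.ptIdeal p hp)).presheaf.stalk x), c = 0 := fun c => by
              induction c using TensorProduct.induction_on with
              | zero => rfl
              | tmul m q => rw [Subsingleton.elim q 0, TensorProduct.tmul_zero]
              | add a b ha hb => rw [ha, hb, add_zero]
            rw [key a, key b]⟩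
        exact @Subsingleton.elim _
          (@Function.Injective.subsingleton _ _ _
            (KFlatLib.stalkTensorIso x M (ClSub.quotMod (CurvePoint.ptIdeal p hp))).toLinearEquiv.symm.injective this) _ _
    rw [InvX.app_eq_smul φ r, h0]
    simp [AModX.res]
  have hk : (s ≫ (KFlatLib.tensorUnitIso M).inv) ≫ F.map π = 0 := by rw [Category.assoc]; exact hφ
  refine ⟨hS.fIsKernel.lift (KernelFork.ofι _ hk), fun h0 => hs ?_⟩
  have := Fork.IsLimit.lift_ι' hS.fIsKernel (s ≫ (KFlatLib.tensorUnitIso M).inv) (hk.trans comp_zero.symm)
  have h2 : hS.fIsKernel.lift (KernelFork.ofι _ hk) ≫ F.map ι = s ≫ (KFlatLib.tensorUnitIso M).inv :=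
    hS.fIsKernel.fac _ WalkingParallelPair.zero
  rw [h0, zero_comp] at h2
  simpa using congrArg (· ≫ (KFlatLib.tensorUnitIso M).hom) h2.symm

variable (k : Type u) [Field k] [IsAlgClosed k] [C.Over (Spec (CommRingCat.of k))]
  [IsProper (C ↘ Spec (CommRingCat.of k))] [Smooth (C ↘ Spec (CommRingCat.of k))] [IsIntegral C]

/-- An invertible module with a section of degree `n` is trivial after twisting by `n` points. -/
theorem exists_points (hdim : topologicalKrullDim C = 1) (n : ℕ) {M : C.Modules} (hM : PicF.IsInvertible M)
    (hd : Curv2.deg k C M 1 = n) (s : Coh.structureModule C ⟶ M) (hs : s ≠ 0) :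
    ∃ p : Fin n → {x : C // IsClosed ({x} : Set C)},
      PicF.cl M * ∏ i, PicF.cl (CurvePoint.ptMod (p i).1 (p i).2) = 1 := by
  induction n generalizing M with
  | zero =>
    haveI := (CurveDeg.deg_le_and_isIso k hdim.le (PicLoc.isInvertible_structureModule C) hM s hs).2
      (by rw [CurveDeg.deg_structureModule, hd]; rfl)
    refine ⟨fun i => i.elim0, ?_⟩
    rw [Fin.prod_univ_zero, mul_one]
    exact (H23.PicMul.cl_eq_iff).2 ⟨(asIso s).symm⟩
  | succ n ih =>
    obtain ⟨p, hp, hps⟩ : ∃ p : C, IsClosed ({p} : Set C) ∧ p ∉ CohB1.genLocus M s := by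
      by_contra hc
      push Not at hc
      have htop : CohB1.genLocus M s = ⊤ := by
        refine Opens.ext (Set.eq_univ_iff_forall.2 fun x => ?_)
        by_contra hx
        haveI : JacobsonSpace C := LocallyOfFiniteType.jacobsonSpace (C ↘ Spec (CommRingCat.of k))
        obtain ⟨y, hy, hyc⟩ := nonempty_inter_closedPoints ⟨x, hx⟩
          (CohB1.genLocus M s).2.isClosed_compl.isLocallyClosed
        exact hy (hc y hyc)
      haveI := Pic13Lib.isIso_of_genLocus_eq_top s htop
      have := CurveRR.deg_congr k (asIso s) 1
      rw [CurveDeg.deg_structureModule, hd] at this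
      push_cast at this
      omega
    obtain ⟨s', hs'⟩ := exists_lift_of_notMem_genLocus hM s hs p hp hps
    have hI := CurvePoint.isInvertible_ptMod p hp k hdim
    obtain ⟨q, hq⟩ := ih (H23.PicMul.isInvertible_tensor hM hI) (by
      have := CurveRR.deg_tensor k hdim hM hI
      rw [hd, CurvePoint.deg_ptMod p hp k] at this
      push_cast at this
      refine this.trans ?_
      ring) s' hs'
    refine ⟨Fin.cons ⟨p, hp⟩ q, ?_⟩
    rw [Fin.prod_univ_succ, ← mul_assoc, Fin.cons_zero]
    simp only [Fin.cons_succ]
    exact hq

end Groth.Agent.PicCurve61
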