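import Groth.Agent.Lib.CurvePoint
import Groth.Agent.ArSurfX.PullIdeal
import Groth.Agent.Grass60.CurveSplit
import Groth.Agent.Grass60.CurveDiv
import Groth.Agent.SymProdLib.HighDim
import Groth.Agent.PicCurve61.Closure
import Mathlib.AlgebraicGeometry.AlgClosed.Basic

/-!
# Differences of points on a smooth proper curve are algebraically equivalent to zero
-/

set_option autoImplicit false
set_option linter.style.haveILetI false
set_option linter.unusedSectionVars false
set_option backward.isDefEq.respectTransparency false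
set_option backward.isDefEq.respectTransparency.types false

universe u

open CategoryTheory CategoryTheory.Limits AlgebraicGeometry TopologicalSpace

namespace Groth.Agent.PicCurve61

variable {k : Type u} [Field k] [IsAlgClosed k] {C : Scheme.{u}} [C.Over (Spec (CommRingCat.of k))]
  [IsProper (C ↘ Spec (CommRingCat.of k))] [Smooth (C ↘ Spec (CommRingCat.of k))] [IsIntegral C]

theorem ker_pointOfClosedPoint (p : C) (hp : IsClosed ({p} : Set C)) :
    (pointOfClosedPoint (C ↘ Spec (CommRingCat.of k)) p hp).ker = CurvePoint.ptIdeal p hp := by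
  rw [← Scheme.IdealSheafData.map_bot, ← Scheme.nilradical_eq_bot,
    ← Scheme.IdealSheafData.vanishingIdeal_top, Scheme.IdealSheafData.map_vanishingIdeal]
  refine congrArg Scheme.IdealSheafData.vanishingIdeal (Closeds.ext ?_)
  show closure (_ '' (Set.univ : Set _)) = ({p} : Set C)
  haveI : Nonempty ↥(Spec (CommRingCat.of k)) := ⟨IsLocalRing.closedPoint k⟩
  have h : Set.range (pointOfClosedPoint (C ↘ Spec (CommRingCat.of k)) p hp) = {p} := by
    rw [Set.range_eq_singleton_iff]
    exact fun a => pointOfClosedPoint_apply _ _ _ a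
  rw [Set.image_univ, h, hp.closure_eq]

/-- The family of ideals of points, based at `Q`, makes `I_P ⊗ I_Q⁻¹` algebraically trivial. -/
theorem algZero_ptMod_tensor (hdim : topologicalKrullDim C = 1) (P Q : C) (hP : IsClosed ({P} : Set C))
    (hQ : IsClosed ({Q} : Set C)) {E : C.Modules} (hE : PicF.IsInvertible E)
    (eQ : CohB1.tensorMod (CurvePoint.ptMod Q hQ) E ≅ Coh.structureModule C) :
    Pic13.IsAlgEquivZero k C (CohB1.tensorMod (CurvePoint.ptMod P hP) E) := by
  let q := C ↘ Spec (CommRingCat.of k)
  haveI : SmoothOfRelativeDimension 1 q := SymProdLib.smoothOfRelativeDimension_of_irreducible 1 hdim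
  haveI : MorphismProperty.IsStableUnderBaseChange (@SmoothOfRelativeDimension.{u} 1) :=
    smoothOfRelativeDimension_isStableUnderBaseChange 1
  haveI : SmoothOfRelativeDimension 1 (pullback.snd q q) :=
    MorphismProperty.of_isPullback (IsPullback.of_hasPullback q q) inferInstance
  let Δ : C ⟶ Pic13.prodK k C q := pullback.lift (𝟙 C) (𝟙 C) rfl
  have hΔ : Δ ≫ pullback.snd q q = 𝟙 C := pullback.lift_snd _ _ _
  haveI : IsClosedImmersion Δ := by
    haveI : IsClosedImmersion (Δ ≫ pullback.snd q q) := by rw [hΔ]; infer_instance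
    exact IsClosedImmersion.of_comp Δ (pullback.snd q q)
  have hD : BlowUp.IsEffCartierIdeal Δ.ker := by
    refine (Grass60.CurveDiv.effCartier_of_finLocFree (pullback.snd q q) Δ.ker ?_).1
    refine ((HilbDLib.finLocFreeOfDeg_ker (d := 1) Δ _).2 ?_).1
    rw [hΔ]
    exact ⟨⟨inferInstance, inferInstance, inferInstance⟩, fun y => by
      rw [Scheme.Hom.finrank_eq_one_of_isIso]; rfl⟩
  have fib : ∀ (R : C) (hR : IsClosed ({R} : Set C)), Nonempty
      (Pic13.fibreMod k C q (pointOfClosedPoint q R hR) (pointOfClosedPoint_comp q R hR)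
        (ClSub.idealMod Δ.ker) ≅ CurvePoint.ptMod R hR) := by
    intro R hR
    let t := pointOfClosedPoint q R hR
    have ht : t ≫ q = 𝟙 _ := pointOfClosedPoint_comp q R hR
    let s := Pic13.sliceAt k C q t ht
    have hpb : IsPullback t t s Δ := by
      refine ⟨⟨?_⟩, ⟨PullbackCone.IsLimit.mk _ (fun c => c.fst ≫ q) (fun c => ?_) (fun c => ?_) fun c m h1 _ => ?_⟩⟩
      · apply pullback.hom_ext <;> simp [s, Δ, Pic13.sliceAt, q, reassoc_of% ht]
      · have h1 : c.fst ≫ s ≫ pullback.fst q q = c.snd ≫ Δ ≫ pullback.fst q q := by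
          rw [← Category.assoc, c.condition, Category.assoc]
        have h2 : c.fst ≫ s ≫ pullback.snd q q = c.snd ≫ Δ ≫ pullback.snd q q := by
          rw [← Category.assoc, c.condition, Category.assoc]
        rw [show s ≫ pullback.fst q q = 𝟙 C from pullback.lift_fst _ _ _,
          show Δ ≫ pullback.fst q q = 𝟙 C from pullback.lift_fst _ _ _, Category.comp_id, Category.comp_id] at h1
        rw [show s ≫ pullback.snd q q = q ≫ t from pullback.lift_snd _ _ _, hΔ, Category.comp_id, ← h1] at h2
        rw [Category.assoc, h2]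
      · have h2 : c.fst ≫ s ≫ pullback.snd q q = c.snd ≫ Δ ≫ pullback.snd q q := by
          rw [← Category.assoc, c.condition, Category.assoc]
        rw [show s ≫ pullback.snd q q = q ≫ t from pullback.lift_snd _ _ _, hΔ, Category.comp_id] at h2
        rw [Category.assoc, h2]
      · rw [← h1, Category.assoc, ht, Category.comp_id]
    have hc : Δ.ker.comap s = CurvePoint.ptIdeal R hR := by
      rw [Grass60.CurveSplit.comap_ker_of_isPullback hpb, ker_pointOfClosedPoint (k := k)]
    have hE : BlowUp.IsEffCartierIdeal (Δ.ker.comap s) := by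
      rw [hc, ← ker_pointOfClosedPoint (k := k) R hR]
      haveI : IsClosedImmersion t := isClosedImmersion_of_comp_eq_id q t ht
      refine (Grass60.CurveDiv.effCartier_of_finLocFree q t.ker ?_).1
      refine ((HilbDLib.finLocFreeOfDeg_ker (d := 1) t _).2 ?_).1
      rw [ht]
      exact ⟨⟨inferInstance, inferInstance, inferInstance⟩, fun y => by
        rw [Scheme.Hom.finrank_eq_one_of_isIso]; rfl⟩
    obtain ⟨e⟩ := ArSurfX.nonempty_pullback_idealMod hD s hE
    exact ⟨e ≪≫ eqToIso (congrArg ClSub.idealMod hc)⟩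
  let p1 := pullback.fst q q
  have hM : PicF.IsInvertible (CohB1.tensorMod (ClSub.idealMod Δ.ker) ((Scheme.Modules.pullback p1).obj E)) :=
    H23.PicMul.isInvertible_tensor (ArSurfX.isInvertible_idealMod hD) (PicClLib.isInvertible_pullback p1 hE)
  have tot : ∀ (R : C) (hR : IsClosed ({R} : Set C)), Nonempty
      (Pic13.fibreMod k C q (pointOfClosedPoint q R hR) (pointOfClosedPoint_comp q R hR)
        (CohB1.tensorMod (ClSub.idealMod Δ.ker) ((Scheme.Modules.pullback p1).obj E)) ≅
          CohB1.tensorMod (CurvePoint.ptMod R hR) E) := fun R hR =>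
    ⟨(H23.PicMul.pull _ _ _).some ≪≫ PicGrp.tensorModIso (fib R hR).some
      ((Scheme.Modules.pullbackComp _ p1).app E ≪≫
        eqToIso (congrArg (fun m => (Scheme.Modules.pullback m).obj E) (pullback.lift_fst _ _ _)) ≪≫
        (Scheme.Modules.pullbackId C).app E)⟩
  exact ⟨C, q, inferInstance, inferInstance, inferInstance, _, hM, pointOfClosedPoint q P hP,
    pointOfClosedPoint q Q hQ, pointOfClosedPoint_comp q P hP, pointOfClosedPoint_comp q Q hQ,
    tot P hP, ⟨(tot Q hQ).some ≪≫ eQ⟩⟩

end Groth.Agent.PicCurve61
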