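import Groth.Agent.PicCurve61.Family
import Groth.Agent.PicCurve61.Degree
import Groth.Agent.SurfInt.Basic
import Groth.Agent.Pic13Lib.TauApply
import Groth.Agent.S4278

/-!
# Degree zero invertible modules on a curve are algebraically trivial
-/

set_option autoImplicit false
set_option linter.style.haveILetI false
set_option linter.unusedSectionVars false
set_option backward.isDefEq.respectTransparency false
set_option backward.isDefEq.respectTransparency.types false

universe u

open CategoryTheory CategoryTheory.Limits AlgebraicGeometry TopologicalSpace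

namespace Groth.Agent.PicCurve61

open scoped Groth.Agent.H23.PicMul

variable {k : Type u} [Field k] {X : Scheme.{u}} [X.Over (Spec (CommRingCat.of k))]

theorem algZero_inverse {L L' : X.Modules} (h : Pic13.IsAlgEquivZero k X L)
    (e : PicF.cl L * PicF.cl L' = 1) : Pic13.IsAlgEquivZero k X L' := by
  obtain ⟨T, q, h1, h2, h3, M, hM, t, t₀, ht, ht₀, ⟨a⟩, ⟨b⟩⟩ := h
  obtain ⟨N, hN, eN⟩ := H23.PicInv.exists_inverse hM
  have key : ∀ s hs, PicF.cl (Pic13.fibreMod k X q s hs M) * PicF.cl (Pic13.fibreMod k X q s hs N) = 1 := by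
    intro s hs
    exact (H23.PicMul.pullCl_mul (Pic13.sliceAt k X q s hs) (PicF.cl M) (PicF.cl N)).symm.trans
      ((congrArg (PicF.pullCl _) ((H23.PicMul.cl_eq_iff).2 eN)).trans (H23.PicMul.pullCl_one _))
  have kt := key t ht
  have k0 := key t₀ ht₀
  rw [H23.PicMul.cl_eq_iff.2 ⟨a⟩, mul_comm] at kt
  rw [H23.PicMul.cl_eq_iff.2 ⟨b⟩, ← H23.PicMul.one_def, one_mul] at k0
  exact ⟨T, q, h1, h2, h3, N, hN, t, t₀, ht, ht₀, H23.PicMul.cl_eq_iff.1 (left_inv_eq_right_inv kt e),
    H23.PicMul.cl_eq_iff.1 k0⟩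

variable [IsAlgClosed k]

theorem algZero_prod {ι : Type*} (s : Finset ι) (L : ι → X.Modules) (h : ∀ i, Pic13.IsAlgEquivZero k X (L i))
    {M : X.Modules} (e : PicF.cl M = ∏ i ∈ s, PicF.cl (L i)) : Pic13.IsAlgEquivZero k X M := by
  classical
  induction s using Finset.induction_on generalizing M with
  | empty =>
    rw [Finset.prod_empty] at e
    exact AVDual.algEquivZero_of_iso (H23.PicMul.cl_eq_iff.1 e).some.symm (AVDual.algEquivZero_structure X)
  | insert a s ha ih =>
    rw [Finset.prod_insert ha] at e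
    obtain ⟨N, hN⟩ : ∃ N : X.Modules, PicF.cl N = ∏ i ∈ s, PicF.cl (L i) :=
      Quot.exists_rep (∏ i ∈ s, PicF.cl (L i) : PicF.Cl X)
    rw [← hN] at e
    exact AVDual.algEquivZero_of_iso (H23.PicMul.cl_eq_iff.1 e).some.symm
      (algZero_tensor (h a) (ih hN))

variable [IsProper (X ↘ Spec (CommRingCat.of k))] [Smooth (X ↘ Spec (CommRingCat.of k))] [IsIntegral X]

theorem algZero_of_deg_eq_zero (hdim : topologicalKrullDim X = 1) {L : X.Modules} (hL : PicF.IsInvertible L)
    (hd : Curv2.deg k X L 1 = 0) : Pic13.IsAlgEquivZero k X L := by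
  haveI : JacobsonSpace X := LocallyOfFiniteType.jacobsonSpace (X ↘ Spec (CommRingCat.of k))
  obtain ⟨Q, -, hQ⟩ := nonempty_inter_closedPoints (Set.univ_nonempty (α := X)) isClosed_univ.isLocallyClosed
  obtain ⟨E, hE, eE⟩ := H23.PicInv.exists_inverse (CurvePoint.isInvertible_ptMod Q hQ k hdim)
  have hdE : Curv2.deg k X E 1 = 1 := by
    have h1 := CurveRR.deg_tensor k hdim (CurvePoint.isInvertible_ptMod Q hQ k hdim) hE
    have h2 := CurveRR.deg_congr k eE.some 1
    rw [CurveDeg.deg_structureModule] at h2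
    rw [CurvePoint.deg_ptMod Q hQ k] at h1
    have h3 : (0 : ℤ) = -1 + Curv2.deg k X E 1 := h2.symm.trans h1
    omega
  have hpow : ∀ n : ℕ, Curv2.deg k X (CohB1.tensorPow E n) 1 = n := by
    intro n
    induction n with
    | zero => exact CurveDeg.deg_structureModule k
    | succ n ih =>
      refine (CurveRR.deg_tensor k hdim (H23.PicMul.isInvertible_tensorPow hE n) hE).trans ?_
      rw [ih, hdE]
      push_cast
      rfl
  obtain ⟨n, hn⟩ : ∃ n : ℕ, 0 < (n : ℤ) + Curv2.euler k X (Coh.structureModule X) :=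
    ⟨(1 - Curv2.euler k X (Coh.structureModule X)).toNat, by omega⟩
  let M := CohB1.tensorMod L (CohB1.tensorPow E n)
  have hM : PicF.IsInvertible M := H23.PicMul.isInvertible_tensor hL (H23.PicMul.isInvertible_tensorPow hE n)
  have hdM : Curv2.deg k X M 1 = n := by
    refine (CurveRR.deg_tensor k hdim hL (H23.PicMul.isInvertible_tensorPow hE n)).trans ?_
    rw [hd, hpow]
    simp
  haveI := CurveCohLib.isNoetherian_of_proper (k := k) (X := X)
  obtain ⟨s, hs⟩ : ∃ s : Coh.structureModule X ⟶ M, s ≠ 0 := by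
    refine CurveRR.exists_hom_ne_zero k fun h0 => ?_
    have h := CurveRR.euler_eq_h0_sub_h1 k hdim.le (CurveDeg.isCoh_of_isInvertible hM).1
    rw [h0] at h
    unfold Curv2.deg at hdM
    push_cast at h hdM
    omega
  obtain ⟨p, hp⟩ := exists_points k hdim n hM hdM s hs
  let A : Fin n → X.Modules := fun i => CohB1.tensorMod (CurvePoint.ptMod (p i).1 (p i).2) E
  obtain ⟨P, hP⟩ : ∃ P : X.Modules, PicF.cl P = ∏ i, PicF.cl (A i) :=
    Quot.exists_rep (∏ i, PicF.cl (A i) : PicF.Cl X)
  have hPz : Pic13.IsAlgEquivZero k X P :=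
    algZero_prod Finset.univ A (fun i => algZero_ptMod_tensor hdim _ Q (p i).2 hQ hE eE.some) hP
  refine algZero_inverse hPz ?_
  rw [hP, Finset.prod_congr rfl fun i _ => H23.PicMul.cl_tensor _ _, Finset.prod_mul_distrib, Finset.prod_const,
    Finset.card_univ, Fintype.card_fin, ← hp]
  rw [show PicF.cl M = PicF.cl L * PicF.cl E ^ n by
    rw [← H23.PicMul.cl_tensorPow]; rfl]
  ac_rfl

theorem deg_eq_zero_of_algZero (hdim : topologicalKrullDim X = 1) {L : X.Modules} (hL : PicF.IsInvertible L)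
    (h : Pic13.IsAlgEquivZero k X L) : Curv2.deg k X L 1 = 0 := by
  haveI := CurveCohLib.isNoetherian_of_proper (k := k) (X := X)
  have hτ : Pic13.IsTauEquivZero k X L := ⟨1, one_pos, AVDual.algEquivZero_of_iso
    ((H23.PicMul.unit L).some.symm ≪≫ (H23.PicMul.comm _ _).some) h⟩
  have hd1 : topologicalKrullDim X ≤ ((1 : ℕ) : WithBot ℕ∞) := le_of_eq (by rw [hdim]; rfl)
  have h2 := Pic13Lib.euler_tensor_eq 1 hd1 hL hτ (SurfInt.isCoh_structureModule (X := X))
  rw [Pic13Lib.eulerCharLE_congr ((H23.PicMul.comm _ _).some ≪≫ (H23.PicMul.unit L).some) 1,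
    SurfInt.eulerCharLE_eq_euler k hd1 (CurveDeg.isCoh_of_isInvertible hL).1,
    SurfInt.eulerCharLE_eq_euler k hd1 (SurfInt.isCoh_structureModule (X := X)).1] at h2
  unfold Curv2.deg
  rw [h2]
  simp

end Groth.Agent.PicCurve61
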